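import Groth.Agent.H69.TRLim.Ring
import Groth.Agent.H47.InjCokerDescend

/-!
# Transversal regularity descends to a finitely presented algebra
-/

set_option autoImplicit false
set_option linter.style.haveILetI false
set_option backward.isDefEq.respectTransparency false
universe u

open TensorProduct

namespace Groth.Agent.H69.TRLim

open Groth.Agent.H47

section good

variable {A₀ : Type u} [CommRing A₀] {B₀ : Type u} [CommRing B₀] [Algebra A₀ B₀]
  {N M : Type u} [AddCommGroup N] [Module A₀ N] [Module B₀ N] [IsScalarTower A₀ B₀ N]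
  [AddCommGroup M] [Module A₀ M] [Module B₀ M] [IsScalarTower A₀ B₀ M]

/-- Injective with flat cokernel after base change to `C`. -/
def Good (u : N →ₗ[B₀] M) (C : Type u) [CommRing C] [Algebra A₀ C] : Prop :=
  Function.Injective ((u.restrictScalars A₀).lTensor C) ∧
    Module.Flat C (C ⊗[A₀] (M ⧸ LinearMap.range u))

theorem Good.mono {u : N →ₗ[B₀] M} {C G : Type u} [CommRing C] [Algebra A₀ C] [CommRing G]
    [Algebra A₀ G] (h : Good (A₀ := A₀) u C) (φ : C →ₐ[A₀] G) : Good (A₀ := A₀) u G := by
  letI : Algebra C G := φ.toRingHom.toAlgebra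
  haveI : IsScalarTower A₀ C G := IsScalarTower.of_algebraMap_eq fun a => (φ.commutes a).symm
  haveI := h.2
  refine ⟨?_, FlatAdic.flat_of_tower (A := A₀) C G⟩
  rw [injective_iff_map_eq_zero]
  intro z hz
  have hle : AddSubgroup.closure {y | ∃ (g : G) (k : C ⊗[A₀] N), InjCokerDescend.uE A₀ u C k = 0 ∧
      y = AlgebraTensorModule.cancelBaseChange A₀ C G G N (g ⊗ₜ k)} ≤ ⊥ := by
    refine (AddSubgroup.closure_le _).2 ?_
    rintro _ ⟨g, k, hk, rfl⟩
    obtain rfl : k = 0 := h.1 (by rw [← InjCokerDescend.uE_apply, hk, map_zero])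
    simp
  exact hle (InjCokerDescend.ker_baseChange (A₀ := A₀) u (E := C) (G := G) z (by
    rw [InjCokerDescend.uE_apply]; exact hz))

end good

variable {A₀ B₀ : Type u} [CommRing A₀] [CommRing B₀] [Algebra A₀ B₀] [Algebra.FinitePresentation A₀ B₀]

omit [CommRing A₀] in
theorem fp_quot (rs : List B₀) (k : ℕ) : Module.FinitePresentation B₀ (B₀ ⧸ idl rs k) :=
  Module.finitePresentation_of_surjective (idl rs k).mkQ (Submodule.mkQ_surjective _) (by
    rw [Submodule.ker_mkQ]
    exact Submodule.fg_span (List.finite_toSet _))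

attribute [local instance] Algebra.TensorProduct.rightAlgebra

set_option maxHeartbeats 800000 in
/-- Transversal regularity descends to a finitely presented algebra. -/
theorem exists_stage {A B : Type u} [CommRing A] [CommRing B] [Algebra A₀ A] [Algebra A₀ B]
    [Algebra A B] [IsScalarTower A₀ A B] [Algebra B₀ B] [IsScalarTower A₀ B₀ B]
    [Algebra.IsPushout A₀ A B₀ B] {rs : List B₀} (h : TR A B (rs.map (algebraMap B₀ B))) :
    ∃ (C : Type u) (_ : CommRing C) (_ : Algebra A₀ C) (_ : Algebra.FinitePresentation A₀ C)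
      (_ : C →ₐ[A₀] A), TR C (C ⊗[A₀] B₀) (rs.map (algebraMap B₀ (C ⊗[A₀] B₀))) := by
  obtain ⟨hinjA, hflatA⟩ := (tr_map_iff (A := A) _ rs).1 h
  haveI := fun k => fp_quot rs k
  -- the conditions at every index
  have key : ∀ m ≤ rs.length, ∃ (C : Type u) (_ : CommRing C) (_ : Algebra A₀ C)
      (_ : Algebra.FinitePresentation A₀ C) (_ : C →ₐ[A₀] A),
      Module.Flat C (C ⊗[A₀] (B₀ ⧸ idl rs 0)) ∧
        ∀ (k : ℕ) (_ : k < m) (hk : k < rs.length), Good (A₀ := A₀) (mulQ (idl rs k) rs[k]) C := by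
    intro m
    induction m with
    | zero =>
      intro _
      have hA : Module.Flat A (A ⊗[A₀] (B₀ ⧸ idl rs 0)) :=
        (flat_quot_iff (A := A₀) A B _).2 (hflatA 0 (Nat.zero_le _))
      obtain ⟨i, hi⟩ := (FlatModel.flat_baseChange_iff_exists (FPColim.Stage (A₀ := A₀) (A := A))
        FPColim.trans A FPColim.isDirectedColimit (B₀ := B₀) (B₀ ⧸ idl rs 0)).1 hA
      exact ⟨_, inferInstance, inferInstance, inferInstance, FPColim.toA i, hi,
        fun k hk => absurd hk (Nat.not_lt_zero k)⟩
    | succ m ih =>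
      intro hm
      obtain ⟨C, _, _, _, φ, h0, hC⟩ := ih (Nat.le_of_succ_le hm)
      have hm' : m < rs.length := hm
      have hinj : Function.Injective (((mulQ (idl rs m) rs[m]).restrictScalars A₀).lTensor A) :=
        (injective_lTensor_iff (A := A₀) A B _ _).2 (hinjA m hm')
      have hfl : Module.Flat A (A ⊗[A₀] ((B₀ ⧸ idl rs m) ⧸ LinearMap.range (mulQ (idl rs m) rs[m]))) := by
        haveI := (flat_quot_iff (A := A₀) A B _).2 (hflatA (m + 1) hm')
        haveI : Module.Flat A (A ⊗[A₀] (B₀ ⧸ (idl rs m ⊔ Ideal.span {rs[m]}))) := by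
          rw [← idl_succ rs hm']; infer_instance
        exact Module.Flat.of_linearEquiv
          (LinearEquiv.baseChange A₀ A _ _ ((cokerMulQ (idl rs m) rs[m]).restrictScalars A₀))
      obtain ⟨C', _, _, _, φ', hC'⟩ := InjCokerDescend.exists_stage (A₀ := A₀) (B₀ := B₀)
        (mulQ (idl rs m) rs[m]) A hinj hfl
      let G := C ⊗[A₀] C'
      haveI : Algebra.FinitePresentation C G := inferInstance
      have hG : Algebra.FinitePresentation A₀ G := Algebra.FinitePresentation.trans A₀ C G
      let ι : C →ₐ[A₀] G := Algebra.TensorProduct.includeLeft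
      let ι' : C' →ₐ[A₀] G := Algebra.TensorProduct.includeRight
      refine ⟨G, inferInstance, inferInstance, hG, Algebra.TensorProduct.productMap φ φ', ?_,
        fun k hk hk' => ?_⟩
      · exact FlatAdic.flat_of_tower (A := A₀) C G
      · rcases Nat.lt_succ_iff_lt_or_eq.1 hk with hk | rfl
        · exact (hC k hk hk').mono ι
        · exact Good.mono (u := mulQ (idl rs k) rs[k]) hC' ι'
  obtain ⟨C, _, _, hfp, φ, h0, hC⟩ := key rs.length le_rfl
  refine ⟨C, inferInstance, inferInstance, hfp, φ,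
    (tr_map_iff (A := C) _ rs).2 ⟨fun i hi => ?_, fun j hj => ?_⟩⟩
  · exact (injective_lTensor_iff (A := A₀) C (C ⊗[A₀] B₀) _ _).1 (hC i hi hi).1
  · refine (flat_quot_iff (A := A₀) C (C ⊗[A₀] B₀) _).1 ?_
    cases j with
    | zero => exact h0
    | succ j =>
      haveI := (hC j hj hj).2
      rw [idl_succ rs hj]
      exact Module.Flat.of_linearEquiv
        (LinearEquiv.baseChange A₀ C _ _ ((cokerMulQ (idl rs j) rs[j]).restrictScalars A₀)).symm

end Groth.Agent.H69.TRLim
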