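import Groth.Agent.Lib.Lim.IdealDescend
import Mathlib.AlgebraicGeometry.AffineTransitionLimit
import Mathlib.RingTheory.Regular.RegularSequence

/-!
# Generators of an ideal on an affine open descend to a stage
-/

set_option autoImplicit false
set_option linter.style.haveILetI false
set_option backward.isDefEq.respectTransparency false
universe u

open CategoryTheory CategoryTheory.Limits AlgebraicGeometry

namespace Groth.Agent.H69.TRLim.Gens

open Groth.Agent.Lib.Lim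

variable {I : Type u} [SmallCategory I] [IsCofiltered I] {D : I ⥤ Scheme.{u}} {c : Cone D}
  [∀ {i j : I} (f : i ⟶ j), IsAffineHom (D.map f)] {k : I} {W : (D.obj k).Opens}

/-- The map from the sections over a stage of `W`. -/
noncomputable abbrev θ (c : Cone D) (W : (D.obj k).Opens) (j : Over k) :
    Γ(D.obj j.left, D.map j.hom ⁻¹ᵁ W) →+* Γ(c.pt, c.π.app k ⁻¹ᵁ W) :=
  ((c.π.app j.left).appLE _ _ (IdealDescend.preimage_le D c k W j)).hom

omit [IsCofiltered I] [∀ {i j : I} (f : i ⟶ j), IsAffineHom (D.map f)] in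
theorem le_tr (W : (D.obj k).Opens) {j j' : Over k} (f : j ⟶ j') :
    D.map j.hom ⁻¹ᵁ W ≤ D.map f.left ⁻¹ᵁ (D.map j'.hom ⁻¹ᵁ W) := by
  rw [← Scheme.Hom.comp_preimage, ← D.map_comp, Over.w]

/-- A transition map on sections over `W`. -/
noncomputable abbrev tr (W : (D.obj k).Opens) {j j' : Over k} (f : j ⟶ j') :
    Γ(D.obj j'.left, D.map j'.hom ⁻¹ᵁ W) →+* Γ(D.obj j.left, D.map j.hom ⁻¹ᵁ W) :=
  ((D.map f.left).appLE _ _ (le_tr W f)).hom

omit [IsCofiltered I] [∀ {i j : I} (f : i ⟶ j), IsAffineHom (D.map f)] in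
theorem θ_tr {j j' : Over k} (f : j ⟶ j') : (θ c W j).comp (tr W f) = θ c W j' := by
  rw [θ, tr, ← CommRingCat.hom_comp, Scheme.Hom.appLE_comp_appLE]
  simp only [c.w f.left]

/-- The map from the sections over `W`. -/
noncomputable abbrev ρ (W : (D.obj k).Opens) (j : Over k) :
    Γ(D.obj k, W) →+* Γ(D.obj j.left, D.map j.hom ⁻¹ᵁ W) := ((D.map j.hom).app W).hom

omit [IsCofiltered I] [∀ {i j : I} (f : i ⟶ j), IsAffineHom (D.map f)] in
theorem tr_ρ {j j' : Over k} (f : j ⟶ j') : (tr W f).comp (ρ W j') = ρ W j := by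
  rw [tr, ρ, ρ, ← CommRingCat.hom_comp, Scheme.Hom.app_eq_appLE, Scheme.Hom.appLE_comp_appLE,
    Scheme.Hom.app_eq_appLE]
  simp only [← D.map_comp, Over.w]

omit [IsCofiltered I] [∀ {i j : I} (f : i ⟶ j), IsAffineHom (D.map f)] in
theorem θ_ρ (j : Over k) : (θ c W j).comp (ρ W j) = ((c.π.app k).app W).hom := by
  rw [θ, ρ, ← CommRingCat.hom_comp, Scheme.Hom.app_eq_appLE, Scheme.Hom.appLE_comp_appLE,
    Scheme.Hom.app_eq_appLE]
  simp only [c.w j.hom]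

omit [IsCofiltered I] [∀ {i j : I} (f : i ⟶ j), IsAffineHom (D.map f)] in
theorem tr_tr {j j' j'' : Over k} (f : j ⟶ j') (g : j' ⟶ j'') :
    (tr W f).comp (tr W g) = tr W (f ≫ g) := by
  rw [tr, tr, tr, ← CommRingCat.hom_comp, Scheme.Hom.appLE_comp_appLE]
  simp only [← D.map_comp, Over.comp_left]

/-- Equal images in the limit are equal at a later stage. -/
theorem exists_eq_stage (hc : IsLimit c) (hW : IsAffineOpen W) {j : Over k}
    (s t : Γ(D.obj j.left, D.map j.hom ⁻¹ᵁ W)) (h : θ c W j s = θ c W j t) :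
    ∃ (j' : Over k) (f : j' ⟶ j), tr W f s = tr W f t := by
  have hle : c.π.app j.left ⁻¹ᵁ (D.map j.hom ⁻¹ᵁ W) ≤ c.π.app k ⁻¹ᵁ W := by
    rw [← Scheme.Hom.comp_preimage, c.w]
  have e : (c.π.app j.left).app (D.map j.hom ⁻¹ᵁ W) =
      (c.π.app j.left).appLE _ _ (IdealDescend.preimage_le D c k W j) ≫
        c.pt.presheaf.map (homOfLE hle).op := by
    rw [Scheme.Hom.app_eq_appLE]
    exact (Scheme.Hom.appLE_map _ _ _).symm
  obtain ⟨i, f, hf⟩ := exists_app_map_eq_map_of_isLimit D c hc (hW.preimage (D.map j.hom)).isCompact s t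
    (by rw [e]; exact congrArg (c.pt.presheaf.map (homOfLE hle).op).hom h)
  let j' : Over k := Over.mk (f ≫ j.hom)
  let g : j' ⟶ j := Over.homMk f rfl
  refine ⟨j', g, ?_⟩
  have e' : tr W g = ((D.map f).app (D.map j.hom ⁻¹ᵁ W) ≫
      (D.obj i).presheaf.map (homOfLE (le_tr W g)).op).hom := rfl
  rw [e']
  exact congrArg ((D.obj i).presheaf.map (homOfLE (le_tr W g)).op).hom hf

omit [∀ {i j : I} (f : i ⟶ j), IsAffineHom (D.map f)] in
theorem common {j j₁ j₂ : Over k} (f₁ : j₁ ⟶ j) (f₂ : j₂ ⟶ j) :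
    ∃ (j' : Over k) (g₁ : j' ⟶ j₁) (g₂ : j' ⟶ j₂), g₁ ≫ f₁ = g₂ ≫ f₂ := by
  obtain ⟨m, a, b, -⟩ := IsCofilteredOrEmpty.cone_objs j₁ j₂
  obtain ⟨m', e, he⟩ := IsCofilteredOrEmpty.cone_maps (a ≫ f₁) (b ≫ f₂)
  exact ⟨m', e ≫ a, e ≫ b, by rw [Category.assoc, he, Category.assoc]⟩

/-- An element of the image of an ideal comes from the ideal at a stage. -/
theorem exists_mem_stage (hc : IsLimit c) (hW : IsAffineOpen W) {j : Over k}
    (K : Ideal Γ(D.obj j.left, D.map j.hom ⁻¹ᵁ W)) (x : Γ(c.pt, c.π.app k ⁻¹ᵁ W)) (hx : x ∈ K.map (θ c W j)) :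
    ∃ (j' : Over k) (f : j' ⟶ j) (y : Γ(D.obj j'.left, D.map j'.hom ⁻¹ᵁ W)),
      y ∈ K.map (tr W f) ∧ θ c W j' y = x := by
  induction hx using Submodule.span_induction with
  | mem x hx =>
    obtain ⟨a, ha, rfl⟩ := hx
    refine ⟨j, 𝟙 j, tr W (𝟙 j) a, Ideal.mem_map_of_mem _ ha, ?_⟩
    exact congr($(θ_tr (c := c) (W := W) (𝟙 j)) a)
  | zero => exact ⟨j, 𝟙 j, 0, zero_mem _, map_zero _⟩
  | add a b _ _ ha hb =>
    obtain ⟨j₁, f₁, y₁, hy₁, rfl⟩ := ha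
    obtain ⟨j₂, f₂, y₂, hy₂, rfl⟩ := hb
    obtain ⟨j', g₁, g₂, hg⟩ := common f₁ f₂
    refine ⟨j', g₁ ≫ f₁, tr W g₁ y₁ + tr W g₂ y₂, add_mem ?_ ?_, ?_⟩
    · rw [← tr_tr, ← Ideal.map_map]; exact Ideal.mem_map_of_mem _ hy₁
    · rw [hg, ← tr_tr, ← Ideal.map_map]; exact Ideal.mem_map_of_mem _ hy₂
    · rw [map_add, ← RingHom.comp_apply, ← RingHom.comp_apply (θ c W j'), θ_tr, θ_tr]
  | smul r a _ ha =>
    obtain ⟨j₁, f₁, y₁, hy₁, rfl⟩ := ha
    obtain ⟨j₂, t, ht⟩ := IdealDescend.exists_section_eq D c hc k W hW r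
    obtain ⟨j', g₁, g₂, -⟩ := IsCofilteredOrEmpty.cone_objs j₁ j₂
    refine ⟨j', g₁ ≫ f₁, tr W g₂ t * tr W g₁ y₁, Ideal.mul_mem_left _ _ ?_, ?_⟩
    · rw [← tr_tr, ← Ideal.map_map]; exact Ideal.mem_map_of_mem _ hy₁
    · rw [map_mul, ← RingHom.comp_apply, ← RingHom.comp_apply (θ c W j'), θ_tr, θ_tr, smul_eq_mul]
      exact congrArg (· * _) ht

/-- An inclusion of ideals in the limit holds at a stage. -/
theorem exists_le_stage (hc : IsLimit c) (hW : IsAffineOpen W) {j : Over k}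
    (J K : Ideal Γ(D.obj j.left, D.map j.hom ⁻¹ᵁ W)) (hJ : J.FG) (h : J.map (θ c W j) ≤ K.map (θ c W j)) :
    ∃ (j' : Over k) (f : j' ⟶ j), J.map (tr W f) ≤ K.map (tr W f) := by
  classical
  obtain ⟨s, rfl⟩ := hJ
  have key : ∀ a ∈ s, ∃ (j' : Over k) (f : j' ⟶ j), tr W f a ∈ K.map (tr W f) := by
    intro a ha
    obtain ⟨j₁, f₁, y, hy, hya⟩ := exists_mem_stage hc hW K (θ c W j a)
      (h (Ideal.mem_map_of_mem _ (Submodule.subset_span ha)))
    obtain ⟨j', g, hg⟩ := exists_eq_stage hc hW (tr W f₁ a) y (by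
      rw [← RingHom.comp_apply, θ_tr]; exact hya.symm)
    refine ⟨j', g ≫ f₁, ?_⟩
    rw [← tr_tr, RingHom.comp_apply, hg, ← Ideal.map_map]
    exact Ideal.mem_map_of_mem _ hy
  clear h
  induction s using Finset.induction with
  | empty => exact ⟨j, 𝟙 j, by simp⟩
  | insert a s _ ih =>
    obtain ⟨j₁, f₁, h₁⟩ := ih fun b hb => key b (Finset.mem_insert_of_mem hb)
    obtain ⟨j₂, f₂, h₂⟩ := key a (Finset.mem_insert_self a s)
    obtain ⟨j', g₁, g₂, hg⟩ := common f₁ f₂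
    refine ⟨j', g₁ ≫ f₁, ?_⟩
    rw [Ideal.map_le_iff_le_comap, Ideal.span_le]
    intro b hb
    rw [SetLike.mem_coe, Ideal.mem_comap]
    rcases Finset.mem_insert.1 hb with rfl | hb
    · rw [hg, ← tr_tr, ← Ideal.map_map]
      exact Ideal.mem_map_of_mem _ h₂
    · rw [← tr_tr, ← Ideal.map_map]
      exact Ideal.mem_map_of_mem _ (h₁ (Ideal.mem_map_of_mem _ (Submodule.subset_span hb)))

/-- Generators of a finitely generated ideal over the limit come from a stage. -/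
theorem exists_gens (hc : IsLimit c) (hW : IsAffineOpen W) (J : Ideal Γ(D.obj k, W)) (hJ : J.FG)
    (rs : List Γ(c.pt, c.π.app k ⁻¹ᵁ W)) (h : J.map ((c.π.app k).app W).hom = Ideal.ofList rs) :
    ∃ (j : Over k) (ts : List Γ(D.obj j.left, D.map j.hom ⁻¹ᵁ W)),
      ts.map (θ c W j) = rs ∧ J.map (ρ W j) = Ideal.ofList ts := by
  classical
  -- lift the generators
  obtain ⟨j₀, ts, hts⟩ : ∃ (j : Over k) (ts : List Γ(D.obj j.left, D.map j.hom ⁻¹ᵁ W)), ts.map (θ c W j) = rs := by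
    clear h
    induction rs with
    | nil => exact ⟨Over.mk (𝟙 k), [], rfl⟩
    | cons a l ih =>
      obtain ⟨j₁, t, ht⟩ := IdealDescend.exists_section_eq D c hc k W hW a
      obtain ⟨j₂, ts, hts⟩ := ih
      obtain ⟨j, f₁, f₂, -⟩ := IsCofilteredOrEmpty.cone_objs j₁ j₂
      refine ⟨j, tr W f₁ t :: ts.map (tr W f₂), ?_⟩
      rw [List.map_cons, List.map_map, ← RingHom.comp_apply, θ_tr, ← RingHom.coe_comp, θ_tr, hts]
      exact congrArg (· :: l) ht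
  have heq : (J.map (ρ W j₀)).map (θ c W j₀) = (Ideal.ofList ts).map (θ c W j₀) := by
    rw [Ideal.map_map, θ_ρ, h, Ideal.map_ofList, hts]
  obtain ⟨j₁, f₁, h₁⟩ := exists_le_stage hc hW (J.map (ρ W j₀)) (Ideal.ofList ts) (hJ.map _) heq.le
  obtain ⟨j₂, f₂, h₂⟩ := exists_le_stage hc hW ((Ideal.ofList ts).map (tr W f₁)) ((J.map (ρ W j₀)).map (tr W f₁))
    (Ideal.FG.map (show (Ideal.ofList ts).FG from Submodule.fg_span (List.finite_toSet ts)) _) (by
      rw [Ideal.map_map (tr W f₁) (θ c W j₁), Ideal.map_map (tr W f₁) (θ c W j₁), θ_tr]; exact heq.ge)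
  refine ⟨j₂, ts.map (tr W (f₂ ≫ f₁)), ?_, ?_⟩
  · rw [List.map_map, ← RingHom.coe_comp, θ_tr, hts]
  · rw [← Ideal.map_ofList, ← tr_ρ (f₂ ≫ f₁), ← Ideal.map_map, ← tr_tr, ← Ideal.map_map (tr W f₁),
      ← Ideal.map_map (tr W f₁)]
    exact le_antisymm (Ideal.map_mono h₁) h₂

end Groth.Agent.H69.TRLim.Gens
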