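import Groth.Agent.H69.TRLim.Seq
import Groth.Agent.H69.TRLim.Gens
import Groth.Agent.H69.RegImmLim.Main
import Groth.Agent.Lib.Lim.Approx.Integral

/-!
# Transversally regular immersions along limits
-/

set_option autoImplicit false
set_option linter.style.haveILetI false
set_option backward.isDefEq.respectTransparency false
universe u

open CategoryTheory CategoryTheory.Limits AlgebraicGeometry TopologicalSpace

namespace Groth.Agent.H69.TRLim

open Groth.Agent.Lib Groth.Agent.Lib.Lim.Basic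

/-- The kernel of a closed immersion of finite presentation on an affine chart. -/
theorem fg_ker_app {Z X : Scheme.{u}} (i : Z ⟶ X) [LocallyOfFinitePresentation i] {U : X.Opens}
    (hU : IsAffineOpen U) (hcl : IsClosedImmersion (i ∣_ U)) : (RingHom.ker (i.app U).hom).FG := by
  obtain ⟨hWa, hsurj⟩ := Synt92.KRImm.isAffine_preimage i hU hcl
  have hf := HasRingHomProperty.appLE @LocallyOfFinitePresentation i inferInstance ⟨U, hU⟩
    ⟨i ⁻¹ᵁ U, hWa⟩ le_rfl
  rw [← Scheme.Hom.app_eq_appLE] at hf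
  exact Lib.Lim.Approx.Integral.ker_fg (i.app U).hom hsurj hf

/-- Transversal regularity of an immersion at a point from a chart upstairs. -/
theorem at_of_chart {X S X₁ Z Z₁ : Scheme.{u}} (f : X ⟶ S) (q : X ⟶ X₁) {i : Z ⟶ X} {i₁ : Z₁ ⟶ X₁}
    {g' : Z ⟶ Z₁} (sq : IsPullback g' i i₁ q) (z : Z) {U : X₁.Opens} (hU : IsAffineOpen U)
    (hcl : IsClosedImmersion (i₁ ∣_ U)) {rs : List Γ(X₁, U)}
    (hker : RingHom.ker (i₁.app U).hom = Ideal.ofList rs)
    (hpts : ∀ (x : X) (hx : q x ∈ U), TRP f x (GS q rs x hx)) (hz : q (i z) ∈ U) :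
    RegImm.IsTransRegularImmersionAt f i z := by
  obtain ⟨V, hV, hzV, -⟩ :=
    exists_isAffineOpen_mem_and_subset (X := S) (x := f (i z)) (U := ⊤) trivial
  obtain ⟨U', hU', hzU', hle⟩ :=
    exists_isAffineOpen_mem_and_subset (x := i z) (U := q ⁻¹ᵁ U ⊓ f ⁻¹ᵁ V) ⟨hz, hzV⟩
  have e1 : U' ≤ q ⁻¹ᵁ U := hle.trans inf_le_left
  have e2 : U' ≤ f ⁻¹ᵁ V := hle.trans inf_le_right
  obtain ⟨hcl', hker'⟩ := Synt92.KRDescentScheme.ker_baseChange i₁ q i g' sq hU hcl hU' e1
  rw [hker, Ideal.map_ofList] at hker'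
  refine ⟨⟨U', hU'⟩, ⟨V, hV⟩, e2, hzU', hcl', _, ?_, hker'⟩
  exact chart_of_trp f hU' hV e2 fun x hx => by rw [GS_germ q rs e1 x hx]; exact hpts x (e1 hx)

variable {I : Type u} [SmallCategory I] [IsCofiltered I] {D : I ⥤ Scheme.{u}} {c : Cone D}
  [∀ (i j : I) (f : i ⟶ j), IsAffineHom (D.map f)]
  {i₀ : I} {X₀ Y₀ : Scheme.{u}} {g₀ : X₀ ⟶ D.obj i₀} {j₀ : Y₀ ⟶ X₀}

variable (g₀ j₀) in
/-- Regular at all points of later stages over a point. -/
def GoodPt (j : Over i₀) (x : ↥((bcDiagram D g₀).obj j)) : Prop :=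
  ∀ (m : Over i₀) (f : m ⟶ j) (y : ↥(pullback j₀ (pullback.fst g₀ (D.map m.hom)))),
    (bcDiagram D g₀).map f (pullback.snd j₀ (pullback.fst g₀ (D.map m.hom)) y) = x →
    RegImm.IsTransRegularImmersionAt (pullback.snd g₀ (D.map m.hom))
      (pullback.snd j₀ (pullback.fst g₀ (D.map m.hom))) y

set_option maxHeartbeats 1600000 in
/-- Near each point of the limit, regularity holds at some stage. -/
theorem exists_local (hc : IsLimit c) [LocallyOfFinitePresentation g₀] [IsImmersion j₀]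
    [LocallyOfFinitePresentation j₀] (z : ↥(pullback j₀ (pullback.fst g₀ (c.π.app i₀))))
    (h : RegImm.IsTransRegularImmersionAt (pullback.snd g₀ (c.π.app i₀))
      (pullback.snd j₀ (pullback.fst g₀ (c.π.app i₀))) z) :
    ∃ (j : Over i₀) (W : ((bcDiagram D g₀).obj j).Opens),
      (bcCone (IsPullback.of_hasPullback g₀ (c.π.app i₀)).w).π.app j
        (pullback.snd j₀ (pullback.fst g₀ (c.π.app i₀)) z) ∈ W ∧ ∀ x ∈ W, GoodPt g₀ j₀ j x := by
  haveI : ∀ {i j : I} (f : i ⟶ j), IsAffineHom (D.map f) := fun f => inferInstance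
  haveI : IsAffineHom (c.π.app i₀) := Lib.Lim.Basic.isAffineHom_π hc i₀
  have sq := IsPullback.of_hasPullback g₀ (c.π.app i₀)
  let qX := pullback.fst g₀ (c.π.app i₀)
  let fX := pullback.snd g₀ (c.π.app i₀)
  let iS := pullback.snd j₀ qX
  haveI : IsAffineHom qX := MorphismProperty.pullback_fst (P := @IsAffineHom) _ _ inferInstance
  let BD := bcDiagram D g₀
  let C : Cone BD := bcCone sq.w
  have hC : IsLimit C := isLimitBcCone hc sq
  obtain ⟨V₀, hV₀, hzV₀, -⟩ :=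
    exists_isAffineOpen_mem_and_subset (X := D.obj i₀) (x := g₀ (qX (iS z))) (U := ⊤) trivial
  have hjz : j₀ (pullback.fst j₀ qX z) = qX (iS z) := by
    rw [← Scheme.Hom.comp_apply, pullback.condition, Scheme.Hom.comp_apply]
  obtain ⟨⟨U₀, hU₀⟩, hzU₀, hUV, hcl⟩ := Synt92.KRImm.exists_closed_chart j₀ (pullback.fst j₀ qX z)
    (O := g₀ ⁻¹ᵁ V₀) (hjz ▸ hzV₀)
  rw [hjz] at hzU₀
  have h' : RegImm.IsTransRegularImmersionAt fX iS z := h
  obtain ⟨⟨U', hU'⟩, ⟨V', hV'⟩, e', hxU', hcl', rs, hrs, hker⟩ := h'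
  -- a common basic open
  let K₀ : Over i₀ := Over.mk (𝟙 i₀)
  let Wk₀ : (BD.obj K₀).Opens := pullback.fst g₀ (D.map K₀.hom) ⁻¹ᵁ U₀
  haveI := isAffineHom_fst D g₀ K₀
  have hWk₀ : IsAffineOpen Wk₀ := hU₀.preimage _
  haveI : ∀ j, IsAffineHom (C.π.app j) := fun j => Lib.Lim.Basic.isAffineHom_π hC j
  have hCfst : ∀ j, C.π.app j ≫ pullback.fst g₀ (D.map j.hom) = qX := fun j => bcCone_π_fst sq.w j
  have hzK : C.π.app K₀ (iS z) ∈ Wk₀ := by
    show (C.π.app K₀ ≫ pullback.fst g₀ (D.map K₀.hom)) (iS z) ∈ U₀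
    rw [hCfst]; exact hzU₀
  obtain ⟨b, b', hbb', hxb⟩ := exists_basicOpen_le_affine_inter (X := pullback g₀ (c.π.app i₀))
    (U := C.π.app K₀ ⁻¹ᵁ Wk₀) (hWk₀.preimage (C.π.app K₀)) hU' (iS z) ⟨hzK, hxU'⟩
  obtain ⟨k, bk, hbk⟩ := Lib.Lim.IdealDescend.exists_section_eq BD C hC K₀ Wk₀ hWk₀ b
  let W : (BD.obj k.left).Opens := (BD.obj k.left).basicOpen bk
  have hWa : IsAffineOpen W := (hWk₀.preimage (BD.map k.hom)).basicOpen bk
  have hWU : W ≤ pullback.fst g₀ (D.map k.left.hom) ⁻¹ᵁ U₀ := by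
    intro x hx
    have h1 : BD.map k.hom x ∈ Wk₀ := (BD.obj k.left).basicOpen_le bk hx
    show pullback.fst g₀ (D.map k.left.hom) x ∈ U₀
    rw [← bcDiagram_map_fst D g₀ k.hom, Scheme.Hom.comp_apply]
    exact h1
  have hWS : C.π.app k.left ⁻¹ᵁ W = (pullback g₀ (c.π.app i₀)).basicOpen b' := by
    rw [← hbb', ← hbk]
    refine Eq.trans ?_ (Scheme.basicOpen_appLE (C.π.app k.left) _ _ _ bk).symm
    refine (inf_eq_right.2 fun s hs => ?_).symm
    have h1 : BD.map k.hom (C.π.app k.left s) ∈ Wk₀ := (BD.obj k.left).basicOpen_le bk hs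
    rwa [← Scheme.Hom.comp_apply, C.w] at h1
  -- generators at the limit
  have hleU' : C.π.app k.left ⁻¹ᵁ W ≤ U' := hWS.le.trans ((pullback g₀ (c.π.app i₀)).basicOpen_le b')
  let res := ((pullback g₀ (c.π.app i₀)).presheaf.map (homOfLE hleU').op).hom
  have hkerW : RingHom.ker (iS.app (C.π.app k.left ⁻¹ᵁ W)).hom = Ideal.ofList (rs.map res) := by
    obtain ⟨-, hk⟩ := Synt92.KRDescentScheme.ker_baseChange iS (𝟙 _) iS (𝟙 _)
      (IsPullback.of_horiz_isIso ⟨by simp⟩) hU' hcl' (hWa.preimage (C.π.app k.left)) hleU'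
    rw [hk, hker, Ideal.map_ofList]
    congr 2
  have hpts : ∀ (x : ↥(pullback g₀ (c.π.app i₀))) (hx : x ∈ C.π.app k.left ⁻¹ᵁ W),
      TRP fX x ((rs.map res).map ((pullback g₀ (c.π.app i₀)).presheaf.germ _ x hx).hom) := by
    intro x hx
    have h1 := trp_of_chart fX hU' hV' e' hrs (hleU' hx)
    rw [List.map_map]
    convert h1 using 2
    funext a
    exact TopCat.Presheaf.germ_res_apply (pullback g₀ (c.π.app i₀)).presheaf (homOfLE hleU') x hx a
  -- descend the generators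
  let qk := pullback.fst g₀ (D.map k.left.hom)
  have sqk : IsPullback
      (pullback.lift (pullback.fst j₀ qX) (iS ≫ C.π.app k.left)
        (by rw [Category.assoc, hCfst]; exact pullback.condition))
      iS (pullback.snd j₀ qk) (C.π.app k.left) :=
    RegImmLim.isPullback_map j₀ (C.π.app k.left) qk qX (hCfst k.left)
  obtain ⟨hclW, hkW⟩ := Synt92.KRDescentScheme.ker_baseChange j₀ qk (pullback.snd j₀ qk) _
    (IsPullback.of_hasPullback j₀ qk) hU₀ hcl hWa hWU
  have hJS : (RingHom.ker ((pullback.snd j₀ qk).app W).hom).map ((C.π.app k.left).app W).hom =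
      Ideal.ofList (rs.map res) := by
    obtain ⟨-, hk⟩ := Synt92.KRDescentScheme.ker_baseChange (pullback.snd j₀ qk) (C.π.app k.left) iS _
      sqk hWa hclW (hWa.preimage (C.π.app k.left)) le_rfl
    rw [← Scheme.Hom.app_eq_appLE] at hk
    exact hk.symm.trans hkerW
  have hJfg : (RingHom.ker ((pullback.snd j₀ qk).app W).hom).FG :=
    hkW.symm ▸ (fg_ker_app j₀ hU₀ hcl).map _
  obtain ⟨l, ts, hts, htsJ⟩ := Gens.exists_gens (D := BD) (c := C) hC hWa _ hJfg (rs.map res) hJS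
  let L := l.left
  let WL : (BD.obj L).Opens := BD.map l.hom ⁻¹ᵁ W
  have hWL : IsAffineOpen WL := hWa.preimage _
  let qL := pullback.fst g₀ (D.map L.hom)
  obtain ⟨hclL, hkL⟩ := Synt92.KRDescentScheme.ker_baseChange (pullback.snd j₀ qk) (BD.map l.hom)
    (pullback.snd j₀ qL) _
    (RegImmLim.isPullback_map j₀ (BD.map l.hom) qk qL (bcDiagram_map_fst D g₀ l.hom)) hWa hclW hWL le_rfl
  rw [← Scheme.Hom.app_eq_appLE, htsJ] at hkL
  -- descend regularity
  have hVL : WL ≤ pullback.snd g₀ (D.map L.hom) ⁻¹ᵁ (D.map L.hom ⁻¹ᵁ V₀) := by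
    intro x hx
    show D.map L.hom (pullback.snd g₀ (D.map L.hom) x) ∈ V₀
    rw [← Scheme.Hom.comp_apply, ← pullback.condition, Scheme.Hom.comp_apply]
    refine hUV ?_
    show qL x ∈ U₀
    rw [show qL = _ from (bcDiagram_map_fst D g₀ l.hom).symm, Scheme.Hom.comp_apply]
    exact hWU hx
  obtain ⟨j, hj⟩ := exists_stage_chart hc (pullback.snd g₀ (D.map L.hom))
    (isPullback_bcCone_π sq L) hWL (hV₀.preimage (D.map L.hom)) hVL ts fun x hx => by
      have hx' : x ∈ C.π.app k.left ⁻¹ᵁ W := by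
        show C.π.app k.left x ∈ W
        rw [← C.w l.hom, Scheme.Hom.comp_apply]
        exact hx
      rw [← GS_germ (C.π.app L) ts (Lib.Lim.IdealDescend.preimage_le BD C k.left W l) x hx']
      exact (congrArg (fun r => TRP fX x (List.map
        ((pullback g₀ (c.π.app i₀)).presheaf.germ _ x hx').hom r)) hts).mpr (hpts x hx')
  let J : Over i₀ := Over.mk (j.hom ≫ L.hom)
  let φJ : J ⟶ L := Over.homMk j.hom rfl
  refine ⟨J, BD.map φJ ⁻¹ᵁ WL, ?_, ?_⟩
  · show (C.π.app J ≫ BD.map φJ ≫ BD.map l.hom) (iS z) ∈ W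
    rw [← Category.assoc, C.w, C.w]
    have : iS z ∈ (pullback g₀ (c.π.app i₀)).basicOpen b' := hbb' ▸ hxb
    rwa [← hWS] at this
  · intro x hx m f y hy
    let φ := f ≫ φJ
    refine at_of_chart (pullback.snd g₀ (D.map m.hom)) (BD.map φ)
      (RegImmLim.isPullback_map j₀ (BD.map φ) qL (pullback.fst g₀ (D.map m.hom)) (bcDiagram_map_fst D g₀ φ))
      y hWL hclL hkL (fun w hw => ?_) ?_
    · refine hj (D.map f.left) ?_ w hw
      have h2 := isPullback_bcDiagram_map D g₀ φ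
      have e : D.map f.left ≫ D.map j.hom = D.map φ.left := (D.map_comp _ _).symm
      rw [e]
      exact h2
    · show BD.map (f ≫ φJ) _ ∈ WL
      rw [BD.map_comp, Scheme.Hom.comp_apply, hy]
      exact hx

set_option maxHeartbeats 800000 in
/-- Transversally regular immersions along limits. -/
theorem imm_iff_stage (hc : IsLimit c) (i₀ : I) {X₀ Y₀ : Scheme.{u}} (g₀ : X₀ ⟶ D.obj i₀)
    [LocallyOfFinitePresentation g₀] (j₀ : Y₀ ⟶ X₀) [CompactSpace Y₀] [IsImmersion j₀]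
    [LocallyOfFinitePresentation j₀] :
    RegImm.IsTransRegularImmersion (pullback.snd g₀ (c.π.app i₀))
        (pullback.snd j₀ (pullback.fst g₀ (c.π.app i₀))) ↔
      ∃ (j : I) (φ : j ⟶ i₀), RegImm.IsTransRegularImmersion (pullback.snd g₀ (D.map φ))
        (pullback.snd j₀ (pullback.fst g₀ (D.map φ))) := by
  classical
  haveI : ∀ {i j : I} (f : i ⟶ j), IsAffineHom (D.map f) := fun f => inferInstance
  haveI : IsAffineHom (c.π.app i₀) := Lib.Lim.Basic.isAffineHom_π hc i₀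
  have sq := IsPullback.of_hasPullback g₀ (c.π.app i₀)
  let BD := bcDiagram D g₀
  let C : Cone BD := bcCone sq.w
  let qX := pullback.fst g₀ (c.π.app i₀)
  let fX := pullback.snd g₀ (c.π.app i₀)
  have hCfst : ∀ j, C.π.app j ≫ pullback.fst g₀ (D.map j.hom) = qX := fun j => bcCone_π_fst sq.w j
  constructor
  · rintro ⟨-, h⟩
    have hC : IsLimit C := isLimitBcCone hc sq
    haveI : IsAffineHom qX := MorphismProperty.pullback_fst (P := @IsAffineHom) _ _ inferInstance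
    choose U hzU _hU hcl using fun z : Y₀ => Synt92.KRImm.exists_closed_chart j₀ z (O := ⊤) trivial
    obtain ⟨t, ht⟩ := isCompact_univ.elim_finite_subcover (fun z : Y₀ => (j₀ ⁻¹ᵁ (U z).1 : Set Y₀))
      (fun z => Opens.isOpen _) (fun z _ => Set.mem_iUnion.2 ⟨z, hzU z⟩)
    choose jl W hzW hW using fun z => exists_local hc z (h z)
    have hstage : ∀ k : Y₀, ∃ j : Over i₀, ∀ x : ↥(BD.obj j),
        pullback.fst g₀ (D.map j.hom) x ∈ (U k).1 →
        pullback.fst g₀ (D.map j.hom) x ∈ Set.range j₀ → GoodPt g₀ j₀ j x := by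
      intro k
      haveI := hcl k
      obtain ⟨ha, -⟩ := Synt92.KRImm.isAffine_preimage j₀ (U k).2 (hcl k)
      let O : (pullback j₀ qX).Opens := pullback.fst j₀ qX ⁻¹ᵁ (j₀ ⁻¹ᵁ (U k).1)
      have hO : IsCompact (O : Set ↥(pullback j₀ qX)) := by
        haveI : IsAffineHom (pullback.fst j₀ qX) :=
          MorphismProperty.pullback_fst (P := @IsAffineHom) _ _ inferInstance
        exact (ha.preimage _).isCompact
      let P : ↥(pullback j₀ qX) → (pullback j₀ qX).Opens := fun z =>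
        (pullback.snd j₀ qX ≫ C.π.app (jl z)) ⁻¹ᵁ W z
      obtain ⟨s, hs⟩ := hO.elim_finite_subcover (fun z => (P z : Set ↥(pullback j₀ qX)))
        (fun z => (P z).isOpen) (fun z _ => Set.mem_iUnion.2 ⟨z, hzW z⟩)
      obtain ⟨m₁, hm₁⟩ := IsCofiltered.inf_objs_exists (s.image jl)
      let f₁ : ∀ z : ↥s, m₁ ⟶ jl z := fun z => (hm₁ (Finset.mem_image_of_mem jl z.2)).some
      have hR : IsClosed (Set.range (j₀ ∣_ (U k).1)) := (j₀ ∣_ (U k).1).isClosedEmbedding.isClosed_range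
      let O₂ : X₀.Opens := (U k).1.ι ''ᵁ ⟨_, hR.isOpen_compl⟩
      let U₁ : (BD.obj m₁).Opens := pullback.fst g₀ (D.map m₁.hom) ⁻¹ᵁ (U k).1
      let U₂ : (BD.obj m₁).Opens :=
        (⨆ z : ↥s, BD.map (f₁ z) ⁻¹ᵁ W z) ⊔ pullback.fst g₀ (D.map m₁.hom) ⁻¹ᵁ O₂
      have hle : C.π.app m₁ ⁻¹ᵁ U₁ ≤ C.π.app m₁ ⁻¹ᵁ U₂ := by
        intro p hp
        have hp' : qX p ∈ (U k).1 := by
          rw [← hCfst m₁, Scheme.Hom.comp_apply]; exact hp
        by_cases hz : ∃ w, j₀ w = qX p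
        · obtain ⟨w, hw⟩ := hz
          obtain ⟨z', hz1, hz2⟩ := Scheme.Pullback.exists_preimage_pullback w p hw
          have hz'O : z' ∈ O := by
            show j₀ (pullback.fst j₀ qX z') ∈ (U k).1
            rw [hz1, hw]; exact hp'
          obtain ⟨z, hzs, hz'W⟩ := Set.mem_iUnion₂.1 (hs hz'O)
          refine Or.inl (Opens.mem_iSup.2 ⟨⟨z, hzs⟩, ?_⟩)
          show (C.π.app m₁ ≫ BD.map (f₁ ⟨z, hzs⟩)) p ∈ W z
          rw [C.w, ← hz2]
          exact hz'W
        · refine Or.inr ?_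
          show (C.π.app m₁ ≫ pullback.fst g₀ (D.map m₁.hom)) p ∈ O₂
          rw [hCfst]
          refine ⟨⟨qX p, hp'⟩, ?_, rfl⟩
          rintro ⟨w, hw⟩
          apply hz
          refine ⟨w.1, ?_⟩
          have h2 : (U k).1.ι ((j₀ ∣_ (U k).1) w) = qX p := congrArg (fun a : (U k).1.toScheme => (U k).1.ι a) hw
          rw [← Scheme.Hom.comp_apply, morphismRestrict_ι] at h2
          exact h2
      haveI := isAffineHom_fst D g₀ m₁
      obtain ⟨m, f, hm⟩ := exists_map_preimage_le_map_preimage BD C hC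
        ((U k).2.preimage (pullback.fst g₀ (D.map m₁.hom))).isCompact hle
      refine ⟨m, fun x hxU hxR => ?_⟩
      have hfst : pullback.fst g₀ (D.map m₁.hom) (BD.map f x) = pullback.fst g₀ (D.map m.hom) x := by
        show (BD.map f ≫ pullback.fst g₀ (D.map m₁.hom)) x = _
        erw [bcDiagram_map_fst D g₀ f]
        rfl
      have hxU₁ : x ∈ BD.map f ⁻¹ᵁ U₁ := by
        show pullback.fst g₀ (D.map m₁.hom) (BD.map f x) ∈ (U k).1
        rw [hfst]; exact hxU
      rcases hm hxU₁ with hx | ⟨p, hp, hpx⟩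
      · obtain ⟨z, hz⟩ := Opens.mem_iSup.1 hx
        intro m' g y hy
        refine hW z _ hz m' ((g ≫ f) ≫ f₁ z) y ?_
        rw [BD.map_comp, BD.map_comp, Scheme.Hom.comp_apply, Scheme.Hom.comp_apply, hy]
      · obtain ⟨w, hw⟩ := hxR
        replace hpx := hpx.trans hfst
        have hwk : w ∈ j₀ ⁻¹ᵁ (U k).1 := by
          show j₀ w ∈ (U k).1
          rw [hw]; exact hxU
        refine absurd ⟨⟨w, hwk⟩, (U k).1.ι.isOpenEmbedding.injective ?_⟩ hp
        refine Eq.trans ?_ hpx.symm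
        show ((j₀ ∣_ (U k).1) ≫ (U k).1.ι) ⟨w, hwk⟩ = _
        rw [morphismRestrict_ι]
        exact hw
    choose jk hjk using hstage
    obtain ⟨m, hm⟩ := IsCofiltered.inf_objs_exists (t.image jk)
    refine ⟨m.left, m.hom, inferInstance, fun y => ?_⟩
    obtain ⟨k, hk, hyk⟩ := Set.mem_iUnion₂.1
      (ht (Set.mem_univ (pullback.fst j₀ (pullback.fst g₀ (D.map m.hom)) y)))
    obtain ⟨f⟩ := hm (X := jk k) (Finset.mem_image_of_mem jk hk)
    let x := BD.map f (pullback.snd j₀ (pullback.fst g₀ (D.map m.hom)) y)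
    have hx : pullback.fst g₀ (D.map (jk k).hom) x = j₀ (pullback.fst j₀ (pullback.fst g₀ (D.map m.hom)) y) := by
      show (BD.map f ≫ pullback.fst g₀ (D.map (jk k).hom)) (pullback.snd j₀ _ y) = _
      erw [bcDiagram_map_fst D g₀ f]
      rw [← Scheme.Hom.comp_apply, ← pullback.condition, Scheme.Hom.comp_apply]
    exact hjk k x (hx ▸ hyk) ⟨_, hx.symm⟩ m f y rfl
  · rintro ⟨j, φ, -, h⟩
    refine ⟨inferInstance, fun z => ?_⟩
    let J : Over i₀ := Over.mk φ
    let v := C.π.app J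
    let qJ := pullback.fst g₀ (D.map φ)
    let fJ := pullback.snd g₀ (D.map φ)
    have sqv : IsPullback v fX fJ (c.π.app j) := isPullback_bcCone_π sq J
    have sqZ := RegImmLim.isPullback_map j₀ v qJ qX (hCfst J)
    let w := pullback.lift (pullback.fst j₀ qX) (pullback.snd j₀ qX ≫ v)
      (by rw [Category.assoc, hCfst J]; exact pullback.condition) z
    obtain ⟨⟨U, hU⟩, ⟨V, hV⟩, e, hwU, hcl, rs, hrs, hker⟩ := h w
    refine at_of_chart fX v sqZ z hU hcl hker (fun x hx => trp_baseChange sqv hU hV e hrs x hx) ?_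
    show v (pullback.snd j₀ qX z) ∈ U
    have hw : pullback.snd j₀ qJ w = v (pullback.snd j₀ qX z) := by
      show (pullback.lift _ _ _ ≫ pullback.snd j₀ qJ) z = _
      rw [pullback.lift_snd, Scheme.Hom.comp_apply]
      rfl
    rw [← hw]
    exact hwU

end Groth.Agent.H69.TRLim
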