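import Groth.Agent.H69.TRLim.Ring
import Groth.Agent.H47.ChartPullback
import Mathlib.RingTheory.Ideal.Quotient.Operations

/-!
# Transversal regularity at points of schemes
-/

set_option autoImplicit false
set_option linter.style.haveILetI false
set_option backward.isDefEq.respectTransparency false
universe u

open CategoryTheory CategoryTheory.Limits AlgebraicGeometry

namespace Groth.Agent.H69.TRLim

open Groth.Agent.H47

variable {X S : Scheme.{u}}

/-- Transversal regularity of a list of germs. -/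
def TRP (g : X ⟶ S) (x : X) (ls : List (X.presheaf.stalk x)) : Prop :=
  @TR (S.presheaf.stalk (g x)) (X.presheaf.stalk x) _ _ (g.stalkMap x).hom.toAlgebra ls

/-- Transversal regularity of sections on a pair of opens. -/
def TRC (g : X ⟶ S) (U : X.Opens) (V : S.Opens) (e : U ≤ g ⁻¹ᵁ V) (rs : List Γ(X, U)) : Prop :=
  @TR Γ(S, V) Γ(X, U) _ _ (g.appLE V U e).hom.toAlgebra rs

theorem tr_congr {A B B' : Type u} [CommRing A] [CommRing B] [CommRing B'] [Algebra A B] [Algebra A B']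
    (e : B ≃ₐ[A] B') {rs : List B} (h : TR A B rs) : TR A B' (rs.map e) := by
  refine ⟨RegLim.w_of_flat e.toRingEquiv.toRingHom (RingHom.Flat.of_bijective e.bijective) rs h.1,
    fun j hj => ?_⟩
  haveI := h.2 j (by simpa using hj)
  exact Module.Flat.of_linearEquiv (Ideal.quotientEquivAlg (Ideal.ofList (rs.take j))
    (Ideal.ofList ((rs.map e).take j)) e
    (RegLim.map_take (e.toAlgHom.toRingHom) rs j)).toLinearEquiv.symm

theorem germ_appLE (g : X ⟶ S) {U : X.Opens} {V : S.Opens} (e : U ≤ g ⁻¹ᵁ V) {x : X} (hx : x ∈ U)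
    (a : Γ(S, V)) : X.presheaf.germ U x hx ((g.appLE V U e).hom a) =
      (g.stalkMap x).hom (S.presheaf.germ V (g x) (e hx) a) := by
  show X.presheaf.germ U x hx (X.presheaf.map (homOfLE e).op (g.app V a)) = _
  rw [TopCat.Presheaf.germ_res_apply]
  exact (Scheme.Hom.germ_stalkMap_apply g V x (e hx) a).symm

theorem trp_iff_germ (g : X ⟶ S) {U : X.Opens} {V : S.Opens} (hV : IsAffineOpen V) (e : U ≤ g ⁻¹ᵁ V)
    {x : X} (hx : x ∈ U) (ls : List (X.presheaf.stalk x)) :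
    TRP g x ls ↔ @TR Γ(S, V) (X.presheaf.stalk x) _ _
      ((X.presheaf.germ U x hx).hom.comp (g.appLE V U e).hom).toAlgebra ls := by
  letI : Algebra (S.presheaf.stalk (g x)) (X.presheaf.stalk x) := (g.stalkMap x).hom.toAlgebra
  letI : Algebra Γ(S, V) (X.presheaf.stalk x) :=
    ((X.presheaf.germ U x hx).hom.comp (g.appLE V U e).hom).toAlgebra
  letI : Algebra Γ(S, V) (S.presheaf.stalk (g x)) :=
    TopCat.Presheaf.algebra_section_stalk S.presheaf (⟨g x, e hx⟩ : V)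
  haveI : IsScalarTower Γ(S, V) (S.presheaf.stalk (g x)) (X.presheaf.stalk x) :=
    IsScalarTower.of_algebraMap_eq fun a => germ_appLE g e hx a
  haveI : IsLocalization.AtPrime (S.presheaf.stalk (g x)) (hV.primeIdealOf ⟨g x, e hx⟩).asIdeal :=
    hV.isLocalization_stalk ⟨g x, e hx⟩
  exact tr_iff_of_isLocalization (S.presheaf.stalk (g x)) (hV.primeIdealOf ⟨g x, e hx⟩).asIdeal.primeCompl ls

/-- From an affine chart to a point. -/
theorem trp_of_chart (g : X ⟶ S) {U : X.Opens} (hU : IsAffineOpen U) {V : S.Opens} (hV : IsAffineOpen V)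
    (e : U ≤ g ⁻¹ᵁ V) {rs : List Γ(X, U)} (h : TRC g U V e rs) {x : X} (hx : x ∈ U) :
    TRP g x (rs.map (X.presheaf.germ U x hx).hom) := by
  rw [trp_iff_germ g hV e hx]
  letI : Algebra Γ(S, V) Γ(X, U) := (g.appLE V U e).hom.toAlgebra
  letI : Algebra Γ(S, V) (X.presheaf.stalk x) :=
    ((X.presheaf.germ U x hx).hom.comp (g.appLE V U e).hom).toAlgebra
  letI : Algebra Γ(X, U) (X.presheaf.stalk x) :=
    TopCat.Presheaf.algebra_section_stalk X.presheaf (⟨x, hx⟩ : U)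
  haveI : IsScalarTower Γ(S, V) Γ(X, U) (X.presheaf.stalk x) := IsScalarTower.of_algebraMap_eq fun _ => rfl
  haveI : IsLocalization.AtPrime (X.presheaf.stalk x) (hU.primeIdealOf ⟨x, hx⟩).asIdeal :=
    hU.isLocalization_stalk ⟨x, hx⟩
  exact tr_localization (hU.primeIdealOf ⟨x, hx⟩).asIdeal.primeCompl (X.presheaf.stalk x) h

/-- From all points to an affine chart. -/
theorem chart_of_trp (g : X ⟶ S) {U : X.Opens} (hU : IsAffineOpen U) {V : S.Opens} (hV : IsAffineOpen V)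
    (e : U ≤ g ⁻¹ᵁ V) {rs : List Γ(X, U)}
    (h : ∀ (x : X) (hx : x ∈ U), TRP g x (rs.map (X.presheaf.germ U x hx).hom)) : TRC g U V e rs := by
  letI : Algebra Γ(S, V) Γ(X, U) := (g.appLE V U e).hom.toAlgebra
  refine tr_of_localization (A := Γ(S, V)) fun P hP => ?_
  let y : PrimeSpectrum Γ(X, U) := ⟨P, hP.isPrime⟩
  have hy : hU.fromSpec y ∈ U := hU.opensRange_fromSpec.le ⟨y, rfl⟩
  let x : U := ⟨hU.fromSpec y, hy⟩
  have hpr : hU.primeIdealOf x = y :=
    hU.fromSpec.isOpenEmbedding.injective (hU.fromSpec_primeIdealOf x)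
  letI : Algebra Γ(X, U) (X.presheaf.stalk x.1) := TopCat.Presheaf.algebra_section_stalk X.presheaf x
  haveI : IsLocalization.AtPrime (X.presheaf.stalk x.1) P := by
    have h0 := hU.isLocalization_stalk x
    rw [hpr] at h0
    exact h0
  letI : Algebra Γ(S, V) (X.presheaf.stalk x.1) :=
    ((X.presheaf.germ U x.1 x.2).hom.comp (g.appLE V U e).hom).toAlgebra
  haveI : IsScalarTower Γ(S, V) Γ(X, U) (X.presheaf.stalk x.1) := IsScalarTower.of_algebraMap_eq fun _ => rfl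
  let E := IsLocalization.algEquiv P.primeCompl (X.presheaf.stalk x.1) (Localization.AtPrime P)
  have h1 := tr_congr (E.restrictScalars Γ(S, V)) ((trp_iff_germ g hV e x.2 _).1 (h x.1 x.2))
  rw [List.map_map] at h1
  convert h1 using 2
  funext a
  exact (E.commutes a).symm

/-- Base change of transversal regularity on a chart. -/
theorem trp_baseChange {X₀ S₀ : Scheme.{u}} {q : X ⟶ X₀} {f : X ⟶ S} {f₀ : X₀ ⟶ S₀} {r : S ⟶ S₀}
    (sq : IsPullback q f f₀ r) {U₀ : X₀.Opens} (hU₀ : IsAffineOpen U₀) {V₀ : S₀.Opens}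
    (hV₀ : IsAffineOpen V₀) (e₀ : U₀ ≤ f₀ ⁻¹ᵁ V₀) {rs : List Γ(X₀, U₀)} (h : TRC f₀ U₀ V₀ e₀ rs)
    (x : X) (hx : q x ∈ U₀) :
    TRP f x (rs.map fun a => (q.stalkMap x).hom (X₀.presheaf.germ U₀ (q x) hx a)) := by
  have hfx : f x ∈ r ⁻¹ᵁ V₀ := by
    show r (f x) ∈ V₀
    rw [← Scheme.Hom.comp_apply, ← sq.w, Scheme.Hom.comp_apply]
    exact e₀ hx
  obtain ⟨V, hV, hxV, hVle⟩ := exists_isAffineOpen_mem_and_subset (U := r ⁻¹ᵁ V₀) hfx
  have hU := ChartPullback.isAffineOpen_chart sq hV₀ hU₀ e₀ hV hVle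
  have hp := ChartPullback.isPushout_chart sq hV₀ hU₀ e₀ hV hVle
  let U := q ⁻¹ᵁ U₀ ⊓ f ⁻¹ᵁ V
  letI : Algebra Γ(S₀, V₀) Γ(X₀, U₀) := (f₀.appLE V₀ U₀ e₀).hom.toAlgebra
  letI : Algebra Γ(S₀, V₀) Γ(S, V) := (r.appLE V₀ V hVle).hom.toAlgebra
  letI : Algebra Γ(S, V) Γ(X, U) := (f.appLE V U inf_le_right).hom.toAlgebra
  letI : Algebra Γ(X₀, U₀) Γ(X, U) := (q.appLE U₀ U inf_le_left).hom.toAlgebra
  letI : Algebra Γ(S₀, V₀) Γ(X, U) :=
    ((f.appLE V U inf_le_right).hom.comp (r.appLE V₀ V hVle).hom).toAlgebra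
  haveI : IsScalarTower Γ(S₀, V₀) Γ(S, V) Γ(X, U) := .of_algebraMap_eq' rfl
  haveI : IsScalarTower Γ(S₀, V₀) Γ(X₀, U₀) Γ(X, U) :=
    .of_algebraMap_eq' (congrArg CommRingCat.Hom.hom hp.w)
  haveI : Algebra.IsPushout Γ(S₀, V₀) Γ(S, V) Γ(X₀, U₀) Γ(X, U) :=
    CommRingCat.isPushout_iff_isPushout.mp hp
  have h1 : TRC f U V inf_le_right (rs.map (q.appLE U₀ U inf_le_left).hom) :=
    tr_baseChange (A := Γ(S₀, V₀)) Γ(S, V) Γ(X, U) h
  have h2 := trp_of_chart f hU hV inf_le_right h1 (x := x) ⟨hx, hxV⟩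
  rw [List.map_map] at h2
  convert h2 using 2
  funext a
  exact (germ_appLE q (U := U) inf_le_left ⟨hx, hxV⟩ a).symm

end Groth.Agent.H69.TRLim
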