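import Groth.Prelude.Def_RegImm
import Groth.Agent.H69.RegLim.Ring
import Groth.Agent.H19.FlatLocus.Main
import Mathlib.RingTheory.Flat.Equalizer
import Mathlib.RingTheory.TensorProduct.Quotient
import Mathlib.RingTheory.Flat.Localization
import Mathlib.RingTheory.Localization.BaseChange
import Mathlib.LinearAlgebra.Isomorphisms

/-!
# Transversally regular sequences: localization and base change
-/

set_option autoImplicit false
set_option linter.style.haveILetI false
set_option backward.isDefEq.respectTransparency false
universe u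

open TensorProduct

namespace Groth.Agent.H69.TRLim

/-- Transversally regular sequences. -/
abbrev TR (A B : Type u) [CommRing A] [CommRing B] [Algebra A B] (rs : List B) : Prop :=
  RegImm.IsTransRegularSeq A B rs

variable {A B : Type u} [CommRing A] [CommRing B] [Algebra A B]

/-- The ideal of the first `i` elements. -/
abbrev idl (rs : List B) (i : ℕ) : Ideal B := Ideal.ofList (rs.take i)

omit [Algebra A B] in
theorem tr_map_iff {C : Type u} [CommRing C] [Algebra A C] (φ : B →+* C) (rs : List B) :
    TR A C (rs.map φ) ↔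
      (∀ (i : ℕ) (h : i < rs.length) (x : C), φ rs[i] * x ∈ (idl rs i).map φ → x ∈ (idl rs i).map φ) ∧
        ∀ j ≤ rs.length, Module.Flat A (C ⧸ (idl rs j).map φ) := by
  show _ ∧ _ ↔ _
  rw [List.length_map]
  refine and_congr ((RegLim.w_iff (A := C) _).trans ⟨fun h i hi x hx => ?_, fun h i hi x hx => ?_⟩)
    ⟨fun h j hj => ?_, fun h j hj => ?_⟩
  · have h1 := h i (by simpa using hi) x (by rw [RegLim.map_take, List.getElem_map]; exact hx)
    rwa [RegLim.map_take] at h1
  · rw [List.length_map] at hi
    rw [RegLim.map_take] at hx ⊢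
    rw [List.getElem_map] at hx
    exact h i hi x hx
  · rw [← RegLim.map_take]; exact h j hj
  · rw [RegLim.map_take]; exact h j hj

theorem tr_iff (rs : List B) :
    TR A B rs ↔ (∀ (i : ℕ) (h : i < rs.length) (x : B), rs[i] * x ∈ idl rs i → x ∈ idl rs i) ∧
      ∀ j ≤ rs.length, Module.Flat A (B ⧸ idl rs j) :=
  and_congr (RegLim.w_iff rs) Iff.rfl

/-- The quotient of a localization is a localization of the quotient. -/
noncomputable def locQuot (B' : Type u) [CommRing B'] [Algebra B B'] (I : Ideal B) :
    B ⧸ I →ₗ[B] B' ⧸ I.map (algebraMap B B') :=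
  ((Algebra.TensorProduct.quotIdealMapEquivTensorQuot B' I).symm.toLinearEquiv.restrictScalars B).toLinearMap
    ∘ₗ TensorProduct.mk B B' (B ⧸ I) 1

theorem isLocalizedModule_locQuot (W : Submonoid B) (B' : Type u) [CommRing B'] [Algebra B B']
    [IsLocalization W B'] (I : Ideal B) : IsLocalizedModule W (locQuot B' I) := by
  haveI : IsLocalizedModule W (TensorProduct.mk B B' (B ⧸ I) 1) :=
    (isLocalizedModule_iff_isBaseChange W B' _).2 (TensorProduct.isBaseChange B (B ⧸ I) B')
  exact IsLocalizedModule.of_linearEquiv W _ _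

theorem flat_of_isLocalizedModule {M N : Type u} [AddCommGroup M] [Module B M] [Module A M]
    [IsScalarTower A B M] [AddCommGroup N] [Module B N] [Module A N] [IsScalarTower A B N]
    [Module.Flat A M] (W : Submonoid B) (l : M →ₗ[B] N) [IsLocalizedModule W l] : Module.Flat A N := by
  refine (H19.FlatLocus.flat_iff_killed W l).2 fun J y hy => ⟨1, W.one_mem, ?_⟩
  rw [one_smul]
  exact Module.Flat.lTensor_preserves_injective_linearMap _ J.injective_subtype (by
    rw [hy, map_zero]) 

/-- Localization preserves transversal regularity. -/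
theorem tr_localization (W : Submonoid B) (B' : Type u) [CommRing B'] [Algebra B B'] [Algebra A B']
    [IsScalarTower A B B'] [IsLocalization W B'] {rs : List B} (h : TR A B rs) :
    TR A B' (rs.map (algebraMap B B')) := by
  haveI : Module.Flat B B' := IsLocalization.flat B' W
  refine ⟨h.1.of_flat, fun j hj => ?_⟩
  rw [RegLim.map_take]
  haveI := h.2 j (by simpa using hj)
  haveI := isLocalizedModule_locQuot W B' (idl rs j)
  exact flat_of_isLocalizedModule W (locQuot B' (idl rs j))

/-- Transversal regularity is checked at maximal ideals. -/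
theorem tr_of_localization {rs : List B}
    (h : ∀ (P : Ideal B) [P.IsMaximal],
      TR A (Localization.AtPrime P) (rs.map (algebraMap B (Localization.AtPrime P)))) :
    TR A B rs := by
  refine ⟨RegLim.w_of_localization rs fun P _ => (h P).1, fun j hj => ?_⟩
  refine Module.flat_of_isLocalized_maximal (R := A) B (B ⧸ idl rs j)
    (fun P _ => LocalizedModule P.primeCompl (B ⧸ idl rs j))
    (fun P _ => LocalizedModule.mkLinearMap P.primeCompl (B ⧸ idl rs j)) fun P _ => ?_
  haveI := isLocalizedModule_locQuot P.primeCompl (Localization.AtPrime P) (idl rs j)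
  have hfl := ((tr_map_iff (A := A) _ rs).1 (h P)).2 j hj
  exact Module.Flat.of_linearEquiv
    ((IsLocalizedModule.iso P.primeCompl (locQuot (Localization.AtPrime P) (idl rs j))).restrictScalars A)

/-- The base may be localized. -/
theorem tr_iff_of_isLocalization (A' : Type u) [CommRing A'] [Algebra A A'] [Algebra A' B]
    [IsScalarTower A A' B] (M : Submonoid A) [IsLocalization M A'] (rs : List B) :
    TR A' B rs ↔ TR A B rs :=
  and_congr_right' (forall₂_congr fun j _ =>
    Module.flat_iff_of_isLocalization A' M (B ⧸ Ideal.ofList (rs.take j)))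

section pushout

variable (A' B' : Type u) [CommRing A'] [CommRing B'] [Algebra A A'] [Algebra A' B'] [Algebra B B']
  [Algebra A B'] [IsScalarTower A A' B'] [IsScalarTower A B B'] [Algebra.IsPushout A A' B B']

/-- The quotient of a base change. -/
noncomputable def quotEquiv (I : Ideal B) :
    A' ⊗[A] (B ⧸ I) ≃ₗ[A'] B' ⧸ I.map (algebraMap B B') :=
  (Algebra.IsPushout.cancelBaseChange A A' B B' (B ⧸ I)).symm.trans
    ((Algebra.TensorProduct.quotIdealMapEquivTensorQuot B' I).symm.toLinearEquiv.restrictScalars A')

/-- Multiplication on a quotient. -/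
noncomputable def mulQ (I : Ideal B) (r : B) : B ⧸ I →ₗ[B] B ⧸ I := r • LinearMap.id

omit [Algebra A B] in
theorem injective_mulQ_iff (I : Ideal B) (r : B) :
    Function.Injective (mulQ I r) ↔ ∀ x, r * x ∈ I → x ∈ I := by
  rw [injective_iff_map_eq_zero]
  constructor
  · intro h x hx
    refine Ideal.Quotient.eq_zero_iff_mem.1 (h (Ideal.Quotient.mk I x) ?_)
    exact Ideal.Quotient.eq_zero_iff_mem.2 hx
  · intro h y hy
    obtain ⟨x, rfl⟩ := Ideal.Quotient.mk_surjective y
    exact Ideal.Quotient.eq_zero_iff_mem.2 (h x (Ideal.Quotient.eq_zero_iff_mem.1 hy))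

theorem quotEquiv_natural (I : Ideal B) (r : B) (z : A' ⊗[A] (B ⧸ I)) :
    quotEquiv A' B' I (((mulQ I r).restrictScalars A).lTensor A' z) =
      mulQ (I.map (algebraMap B B')) (algebraMap B B' r) (quotEquiv A' B' I z) := by
  induction z using TensorProduct.induction_on with
  | zero => simp
  | add a b ha hb => simp only [map_add, ha, hb]
  | tmul a q =>
    obtain ⟨x, rfl⟩ := Ideal.Quotient.mk_surjective q
    simp only [LinearMap.lTensor_tmul, LinearMap.coe_restrictScalars, mulQ, LinearMap.smul_apply,
      LinearMap.id_coe, id_eq, quotEquiv, LinearEquiv.trans_apply,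
      Algebra.IsPushout.cancelBaseChange_symm_tmul, TensorProduct.tmul_smul,
      LinearEquiv.restrictScalars_apply]
    rw [← algebraMap_smul B' r, map_smul]

/-- Injectivity after base change. -/
theorem injective_lTensor_iff (I : Ideal B) (r : B) :
    Function.Injective (((mulQ I r).restrictScalars A).lTensor A') ↔
      ∀ x : B', algebraMap B B' r * x ∈ I.map (algebraMap B B') → x ∈ I.map (algebraMap B B') := by
  rw [← injective_mulQ_iff]
  have hf := fun z => quotEquiv_natural (A := A) A' B' I r z
  constructor
  · intro h a b hab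
    obtain ⟨a, rfl⟩ := (quotEquiv (A := A) A' B' I).surjective a
    obtain ⟨b, rfl⟩ := (quotEquiv (A := A) A' B' I).surjective b
    rw [← hf, ← hf] at hab
    rw [h ((quotEquiv (A := A) A' B' I).injective hab)]
  · intro h a b hab
    apply (quotEquiv (A := A) A' B' I).injective
    apply h
    rw [← hf, ← hf, hab]

theorem flat_quot_iff (I : Ideal B) :
    Module.Flat A' (A' ⊗[A] (B ⧸ I)) ↔ Module.Flat A' (B' ⧸ I.map (algebraMap B B')) :=
  ⟨fun _ => Module.Flat.of_linearEquiv (quotEquiv (A := A) A' B' I).symm,
    fun _ => Module.Flat.of_linearEquiv (quotEquiv (A := A) A' B' I)⟩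

end pushout

omit [Algebra A B] in
theorem idl_succ (rs : List B) {i : ℕ} (h : i < rs.length) :
    idl rs (i + 1) = idl rs i ⊔ Ideal.span {rs[i]} := by
  rw [idl, List.take_succ_eq_append_getElem h, Ideal.ofList_append, Ideal.ofList_singleton]

/-- The cokernel of multiplication on a quotient. -/
noncomputable def cokerMulQ (I : Ideal B) (r : B) :
    ((B ⧸ I) ⧸ LinearMap.range (mulQ I r)) ≃ₗ[B] B ⧸ (I ⊔ Ideal.span {r}) := by
  refine (Submodule.quotEquivOfEq _ _ ?_).trans
    (Submodule.quotientQuotientEquivQuotientSup I (Ideal.span {r}))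
  ext y
  constructor
  · rintro ⟨z, rfl⟩
    obtain ⟨x, rfl⟩ := Ideal.Quotient.mk_surjective z
    exact ⟨r * x, Ideal.mul_mem_right _ _ (Ideal.mem_span_singleton_self r), rfl⟩
  · rintro ⟨w, hw, rfl⟩
    obtain ⟨x, rfl⟩ := Ideal.mem_span_singleton'.1 hw
    exact ⟨Ideal.Quotient.mk I x, by rw [mul_comm x r]; rfl⟩

theorem flat_coker (I : Ideal B) (r : B) [Module.Flat A (B ⧸ (I ⊔ Ideal.span {r}))] :
    Module.Flat A ((B ⧸ I) ⧸ LinearMap.range (mulQ I r)) :=
  Module.Flat.of_linearEquiv ((cokerMulQ I r).restrictScalars A)

omit [CommRing A] [CommRing B] [Algebra A B] in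
/-- An injection with flat cokernel stays injective after tensoring. -/
theorem injective_lTensor_of_flat_coker {R S : Type u} [CommRing R] [CommRing S] [Algebra R S]
    {M N : Type u} [AddCommGroup M] [Module S M] [Module R M] [IsScalarTower R S M] [AddCommGroup N]
    [Module S N] [Module R N] [IsScalarTower R S N] (u : M →ₗ[S] N) (hu : Function.Injective u)
    [Module.Flat R (N ⧸ LinearMap.range u)] (P : Type u) [AddCommGroup P] [Module R P] :
    Function.Injective ((u.restrictScalars R).lTensor P) :=
  LinearMap.lTensor_injective_of_exact_of_flat ((LinearMap.range u).mkQ.restrictScalars R)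
    (Submodule.mkQ_surjective (LinearMap.range u)) (u.restrictScalars R) hu
    (LinearMap.exact_iff.2 (Submodule.ker_mkQ (LinearMap.range u)) : Function.Exact u (LinearMap.range u).mkQ) P

theorem injective_lTensor_mulQ (I : Ideal B) (r : B) (hr : Function.Injective (mulQ I r))
    [Module.Flat A (B ⧸ (I ⊔ Ideal.span {r}))] (N : Type u) [AddCommGroup N] [Module A N] :
    Function.Injective (((mulQ I r).restrictScalars A).lTensor N) := by
  haveI := flat_coker (A := A) I r
  exact injective_lTensor_of_flat_coker (R := A) (mulQ I r) hr N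

set_option maxHeartbeats 800000 in
/-- A base change of a transversally regular sequence is transversally regular. -/
theorem tr_baseChange (A' B' : Type u) [CommRing A'] [CommRing B'] [Algebra A A'] [Algebra A' B']
    [Algebra B B'] [Algebra A B'] [IsScalarTower A A' B'] [IsScalarTower A B B']
    [Algebra.IsPushout A A' B B'] {rs : List B} (h : TR A B rs) :
    TR A' B' (rs.map (algebraMap B B')) := by
  rw [tr_iff] at h
  rw [tr_map_iff]
  refine ⟨fun i hi => ?_, fun j hj => ?_⟩
  · rw [← injective_lTensor_iff (A := A) A' B']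
    haveI := h.2 (i + 1) hi
    haveI : Module.Flat A (B ⧸ (idl rs i ⊔ Ideal.span {rs[i]})) := by rw [← idl_succ rs hi]; infer_instance
    exact injective_lTensor_mulQ (A := A) (idl rs i) rs[i] ((injective_mulQ_iff _ _).2 (h.1 i hi)) A'
  · haveI := h.2 j hj
    exact (flat_quot_iff (A := A) A' B' _).1 inferInstance

end Groth.Agent.H69.TRLim
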