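import Groth.Agent.H69.TRLim.Stage

/-!
# Transversally regular sequences of global sections along limits
-/

set_option autoImplicit false
set_option linter.style.haveILetI false
set_option backward.isDefEq.respectTransparency false
universe u

open CategoryTheory CategoryTheory.Limits AlgebraicGeometry

namespace Groth.Agent.H69.TRLim

/-- Restriction of pulled back global sections. -/
noncomputable def sec {X X₀ : Scheme.{u}} (q : X ⟶ X₀) (fs : List Γ(X₀, ⊤)) (U : X.Opens) : List Γ(X, U) :=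
  fs.map fun f => (X.presheaf.map (homOfLE (le_top : U ≤ ⊤)).op).hom (q.appTop.hom f)

theorem sec_germ {X X₀ : Scheme.{u}} (q : X ⟶ X₀) (fs : List Γ(X₀, ⊤)) {U : X.Opens} {x : X} (hx : x ∈ U) :
    (sec q fs U).map (X.presheaf.germ U x hx).hom = GS q fs x trivial := by
  simp only [sec, List.map_map]
  refine List.map_congr_left fun f _ => ?_
  show X.presheaf.germ U x hx (X.presheaf.map (homOfLE le_top).op (q.appTop f)) = _
  rw [TopCat.Presheaf.germ_res_apply]
  exact (Scheme.Hom.germ_stalkMap_apply q ⊤ x trivial f).symm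

theorem GS_res {X X₀ : Scheme.{u}} (q : X ⟶ X₀) (fs : List Γ(X₀, ⊤)) {U₀ : X₀.Opens} (x : X)
    (hx : q x ∈ U₀) :
    GS q (fs.map (X₀.presheaf.map (homOfLE (le_top : U₀ ≤ ⊤)).op).hom) x hx = GS q fs x trivial := by
  simp only [GS, List.map_map]
  refine List.map_congr_left fun f _ => congrArg (q.stalkMap x).hom ?_
  exact TopCat.Presheaf.germ_res_apply X₀.presheaf (homOfLE le_top) (q x) hx f

/-- Regularity on all pairs of affine opens is regularity at all points. -/
theorem forall_affine_iff {X S X₀ : Scheme.{u}} (g : X ⟶ S) (q : X ⟶ X₀) (fs : List Γ(X₀, ⊤)) :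
    (∀ (U : X.affineOpens) (V : S.affineOpens) (e : U.1 ≤ g ⁻¹ᵁ V.1), TRC g U.1 V.1 e (sec q fs U.1)) ↔
      ∀ x : X, TRP g x (GS q fs x trivial) := by
  constructor
  · intro h x
    obtain ⟨V, hV, hxV, -⟩ := exists_isAffineOpen_mem_and_subset (X := S) (x := g x) (U := ⊤) trivial
    obtain ⟨U, hU, hxU, hUV⟩ := exists_isAffineOpen_mem_and_subset (X := X) (x := x) (U := g ⁻¹ᵁ V) hxV
    rw [← sec_germ q fs hxU]
    exact trp_of_chart g hU hV hUV (h ⟨U, hU⟩ ⟨V, hV⟩ hUV) hxU
  · intro h U V e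
    refine chart_of_trp g U.2 V.2 e fun x hx => ?_
    rw [sec_germ]
    exact h x

variable {I : Type u} [SmallCategory I] [IsCofiltered I] {D : I ⥤ Scheme.{u}} {c : Cone D}
  [∀ (i j : I) (f : i ⟶ j), IsAffineHom (D.map f)]

/-- Transversally regular sequences along limits. -/
theorem seq_iff_stage (hc : IsLimit c) (i₀ : I) {X₀ : Scheme.{u}} (g₀ : X₀ ⟶ D.obj i₀) [CompactSpace X₀]
    [LocallyOfFinitePresentation g₀] (fs : List Γ(X₀, ⊤)) :
    (∀ x : ↥(pullback g₀ (c.π.app i₀)), TRP (pullback.snd g₀ (c.π.app i₀)) x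
        (GS (pullback.fst g₀ (c.π.app i₀)) fs x trivial)) ↔
      ∃ (j : I) (φ : j ⟶ i₀), ∀ y : ↥(pullback g₀ (D.map φ)), TRP (pullback.snd g₀ (D.map φ)) y
        (GS (pullback.fst g₀ (D.map φ)) fs y trivial) := by
  classical
  constructor
  · intro h
    have hchart : ∀ z : X₀, ∃ (U₀ : X₀.Opens) (j : Over i₀), z ∈ U₀ ∧
        ∀ {T Y : Scheme.{u}} (t : T ⟶ D.obj j.left) {p : Y ⟶ X₀} {g : Y ⟶ T}
          (_ : IsPullback p g g₀ (t ≫ D.map j.hom)) (y : Y) (_ : p y ∈ U₀),
            TRP g y (GS p fs y trivial) := by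
      intro z
      obtain ⟨V₀, hV₀, hzV, -⟩ :=
        exists_isAffineOpen_mem_and_subset (X := D.obj i₀) (x := g₀ z) (U := ⊤) trivial
      obtain ⟨U₀, hU₀, hzU, hUV⟩ := exists_isAffineOpen_mem_and_subset (X := X₀) (x := z) (U := g₀ ⁻¹ᵁ V₀) hzV
      obtain ⟨j, hj⟩ := exists_stage_chart hc g₀ (IsPullback.of_hasPullback g₀ (c.π.app i₀)) hU₀ hV₀ hUV
        (fs.map (X₀.presheaf.map (homOfLE (le_top : U₀ ≤ ⊤)).op).hom) fun x hx => by
          rw [GS_res]; exact h x
      refine ⟨U₀, j, hzU, fun {T Y} t {p g} sq y hy => ?_⟩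
      have := hj t sq y hy
      rwa [GS_res] at this
    choose U j hz hj using hchart
    obtain ⟨s, hs⟩ := isCompact_univ.elim_finite_subcover (fun z : X₀ => (U z : Set X₀))
      (fun z => (U z).2) (fun z _ => Set.mem_iUnion.2 ⟨z, hz z⟩)
    obtain ⟨m, hm⟩ := IsCofiltered.inf_objs_exists (s.image j)
    refine ⟨m.left, m.hom, fun y => ?_⟩
    obtain ⟨k, hk, hyk⟩ := Set.mem_iUnion₂.1 (hs (Set.mem_univ (pullback.fst g₀ (D.map m.hom) y)))
    obtain ⟨f⟩ := hm (X := j k) (Finset.mem_image_of_mem j hk)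
    exact hj k (D.map f.left) (by rw [← D.map_comp, Over.w]; exact IsPullback.of_hasPullback _ _) y hyk
  · rintro ⟨j, φ, hj⟩ x
    let p := pullback.fst g₀ (D.map φ)
    let g := pullback.snd g₀ (D.map φ)
    let q := pullback.fst g₀ (c.π.app i₀)
    let f := pullback.snd g₀ (c.π.app i₀)
    let v : pullback g₀ (c.π.app i₀) ⟶ pullback g₀ (D.map φ) :=
      pullback.lift q (f ≫ c.π.app j) (by rw [Category.assoc, c.w]; exact pullback.condition)
    have hvp : v ≫ p = q := pullback.lift_fst _ _ _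
    have sqv : IsPullback v f g (c.π.app j) :=
      IsPullback.of_right (by rw [hvp, c.w]; exact IsPullback.of_hasPullback _ _) (pullback.lift_snd _ _ _)
        (IsPullback.of_hasPullback g₀ (D.map φ))
    obtain ⟨V, hV, hxV, -⟩ :=
      exists_isAffineOpen_mem_and_subset (X := D.obj j) (x := g (v x)) (U := ⊤) trivial
    obtain ⟨U, hU, hxU, hUV⟩ := exists_isAffineOpen_mem_and_subset (x := v x) (U := g ⁻¹ᵁ V) hxV
    have hTR : TRC g U V hUV (fs.map (p.appLE ⊤ U le_top).hom) :=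
      chart_of_trp g hU hV hUV fun y hy => by
        rw [GS_germ p fs le_top y hy]; exact hj y
    have := trp_baseChange sqv hU hV hUV hTR x hxU
    rw [← GS_comp v p q hvp fs le_top x hxU trivial]
    exact this

end Groth.Agent.H69.TRLim
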