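import Groth.Agent.H69.TRLim.Point
import Groth.Agent.H69.TRLim.Descend
import Groth.Agent.Lib.Lim.Basic

/-!
# Transversal regularity on a chart descends to a stage of a limit
-/

set_option autoImplicit false
set_option linter.style.haveILetI false
set_option backward.isDefEq.respectTransparency false
universe u

open CategoryTheory CategoryTheory.Limits AlgebraicGeometry TensorProduct

namespace Groth.Agent.H69.TRLim

open Groth.Agent.Lib Groth.Agent.H47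

attribute [local instance] Algebra.TensorProduct.rightAlgebra in
/-- Transport along a map out of the finitely presented model. -/
theorem tr_of_model {A₀ B₀ C P Q : Type u} [CommRing A₀] [CommRing B₀] [CommRing C] [CommRing P]
    [CommRing Q] [Algebra A₀ B₀] [Algebra A₀ C] [Algebra A₀ P] [Algebra A₀ Q] [Algebra P Q]
    [Algebra B₀ Q] [IsScalarTower A₀ P Q] [IsScalarTower A₀ B₀ Q] [Algebra.IsPushout A₀ P B₀ Q]
    (χ : C →ₐ[A₀] P) {rs : List B₀}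
    (h : TR C (C ⊗[A₀] B₀) (rs.map (algebraMap B₀ (C ⊗[A₀] B₀)))) :
    TR P Q (rs.map (algebraMap B₀ Q)) := by
  letI : Algebra C P := χ.toRingHom.toAlgebra
  haveI : IsScalarTower A₀ C P := .of_algebraMap_eq fun a => (χ.commutes a).symm
  letI : Algebra C Q := ((algebraMap P Q).comp (algebraMap C P)).toAlgebra
  haveI : IsScalarTower C P Q := .of_algebraMap_eq' rfl
  let ψ : C ⊗[A₀] B₀ →ₐ[A₀] Q :=
    Algebra.TensorProduct.productMap ((IsScalarTower.toAlgHom A₀ P Q).comp χ) (IsScalarTower.toAlgHom A₀ B₀ Q)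
  letI : Algebra (C ⊗[A₀] B₀) Q := ψ.toRingHom.toAlgebra
  haveI : IsScalarTower C (C ⊗[A₀] B₀) Q :=
    IsScalarTower.of_algebraMap_eq (R := C) (S := C ⊗[A₀] B₀) (A := Q) fun z => by
      show algebraMap P Q (χ z) = ψ (z ⊗ₜ 1)
      exact ((Algebra.TensorProduct.productMap_apply_tmul _ _ z 1).trans
        ((congrArg _ (map_one _)).trans (mul_one _))).symm
  haveI : IsScalarTower B₀ (C ⊗[A₀] B₀) Q :=
    IsScalarTower.of_algebraMap_eq (R := B₀) (S := C ⊗[A₀] B₀) (A := Q) fun b => by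
      show algebraMap B₀ Q b = ψ (1 ⊗ₜ b)
      exact ((Algebra.TensorProduct.productMap_apply_tmul _ _ 1 b).trans
        ((congrArg (· * _) (map_one _)).trans (one_mul _))).symm
  haveI : IsScalarTower A₀ (C ⊗[A₀] B₀) Q :=
    IsScalarTower.of_algebraMap_eq (R := A₀) (S := C ⊗[A₀] B₀) (A := Q) fun a => (ψ.commutes a).symm
  haveI hpC : Algebra.IsPushout C P (C ⊗[A₀] B₀) Q :=
    (Algebra.IsPushout.comp_iff A₀ C B₀ (C ⊗[A₀] B₀)).1 inferInstance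
  have h1 := tr_baseChange (A := C) P Q h
  rw [List.map_map] at h1
  convert h1 using 2
  funext b
  exact IsScalarTower.algebraMap_apply B₀ (C ⊗[A₀] B₀) Q b

/-- The pulled back germs of sections. -/
noncomputable def GS {X X₀ : Scheme.{u}} (q : X ⟶ X₀) {U₀ : X₀.Opens} (rs : List Γ(X₀, U₀)) (x : X)
    (hx : q x ∈ U₀) : List (X.presheaf.stalk x) :=
  rs.map fun a => (q.stalkMap x).hom (X₀.presheaf.germ U₀ (q x) hx a)

theorem GS_germ {X X₀ : Scheme.{u}} (q : X ⟶ X₀) {U₀ : X₀.Opens} (rs : List Γ(X₀, U₀)) {U : X.Opens}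
    (e : U ≤ q ⁻¹ᵁ U₀) (x : X) (hx : x ∈ U) :
    (rs.map (q.appLE U₀ U e).hom).map (X.presheaf.germ U x hx).hom = GS q rs x (e hx) := by
  rw [List.map_map]
  exact List.map_congr_left fun a _ => germ_appLE q e hx a

theorem GS_comp {X X₁ X₀ : Scheme.{u}} (v : X ⟶ X₁) (q₁ : X₁ ⟶ X₀) (q : X ⟶ X₀) (w : v ≫ q₁ = q)
    {U₀ : X₀.Opens} (rs : List Γ(X₀, U₀)) {U₁ : X₁.Opens} (e : U₁ ≤ q₁ ⁻¹ᵁ U₀) (x : X)
    (hx : v x ∈ U₁) (hx' : q x ∈ U₀) :
    GS v (rs.map (q₁.appLE U₀ U₁ e).hom) x hx = GS q rs x hx' := by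
  subst w
  have e1 : v ⁻¹ᵁ U₁ ≤ (v ≫ q₁) ⁻¹ᵁ U₀ := fun y hy => e hy
  rw [← GS_germ v _ (le_refl (v ⁻¹ᵁ U₁)) x hx, ← GS_germ (v ≫ q₁) rs e1 x hx]
  simp only [List.map_map]
  refine List.map_congr_left fun a _ => ?_
  exact congrArg (X.presheaf.germ (v ⁻¹ᵁ U₁) x hx).hom
    (congr($(Scheme.Hom.appLE_comp_appLE v q₁ U₀ U₁ (v ⁻¹ᵁ U₁) e le_rfl) a))

variable {I : Type u} [SmallCategory I] [IsCofiltered I] {D : I ⥤ Scheme.{u}} {c : Cone D}
  [∀ (i j : I) (f : i ⟶ j), IsAffineHom (D.map f)]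

attribute [local instance] Algebra.TensorProduct.rightAlgebra in
/-- Transversal regularity on a chart over the limit holds on the chart over some stage. -/
theorem exists_stage_chart (hc : IsLimit c) {i₀ : I} {X₀ : Scheme.{u}} (g₀ : X₀ ⟶ D.obj i₀)
    [LocallyOfFinitePresentation g₀] {X : Scheme.{u}} {qX : X ⟶ X₀} {f : X ⟶ c.pt}
    (sq : IsPullback qX f g₀ (c.π.app i₀))
    {U₀ : X₀.Opens} (hU₀ : IsAffineOpen U₀) {V₀ : (D.obj i₀).Opens} (hV₀ : IsAffineOpen V₀)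
    (e₀ : U₀ ≤ g₀ ⁻¹ᵁ V₀) (rs : List Γ(X₀, U₀))
    (h : ∀ (x : X) (hx : qX x ∈ U₀), TRP f x (GS qX rs x hx)) :
    ∃ j : Over i₀, ∀ {T Y : Scheme.{u}} (t : T ⟶ D.obj j.left) {p : Y ⟶ X₀} {g : Y ⟶ T}
      (_ : IsPullback p g g₀ (t ≫ D.map j.hom)) (y : Y) (hy : p y ∈ U₀), TRP g y (GS p rs y hy) := by
  haveI : ∀ {i j : I} (f : i ⟶ j), IsAffineHom (D.map f) := fun f => inferInstance
  haveI : IsAffineHom (c.π.app i₀) := Lim.Basic.isAffineHom_π hc i₀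
  let V := c.π.app i₀ ⁻¹ᵁ V₀
  have hV : IsAffineOpen V := hV₀.preimage _
  let U := qX ⁻¹ᵁ U₀ ⊓ f ⁻¹ᵁ V
  have hU := ChartPullback.isAffineOpen_chart sq hV₀ hU₀ e₀ hV le_rfl
  have hp := ChartPullback.isPushout_chart sq hV₀ hU₀ e₀ hV le_rfl
  have hTR : TRC f U V inf_le_right (rs.map (qX.appLE U₀ U inf_le_left).hom) :=
    chart_of_trp f hU hV inf_le_right fun x hx => by
      rw [GS_germ qX rs inf_le_left x hx]; exact h x hx.1
  letI : Algebra Γ(D.obj i₀, V₀) Γ(X₀, U₀) := (g₀.appLE V₀ U₀ e₀).hom.toAlgebra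
  letI : Algebra Γ(D.obj i₀, V₀) Γ(c.pt, V) := ((c.π.app i₀).appLE V₀ V le_rfl).hom.toAlgebra
  letI : Algebra Γ(c.pt, V) Γ(X, U) := (f.appLE V U inf_le_right).hom.toAlgebra
  letI : Algebra Γ(X₀, U₀) Γ(X, U) := (qX.appLE U₀ U inf_le_left).hom.toAlgebra
  letI : Algebra Γ(D.obj i₀, V₀) Γ(X, U) :=
    ((f.appLE V U inf_le_right).hom.comp ((c.π.app i₀).appLE V₀ V le_rfl).hom).toAlgebra
  haveI : IsScalarTower Γ(D.obj i₀, V₀) Γ(c.pt, V) Γ(X, U) := .of_algebraMap_eq' rfl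
  haveI : IsScalarTower Γ(D.obj i₀, V₀) Γ(X₀, U₀) Γ(X, U) :=
    .of_algebraMap_eq' (congrArg CommRingCat.Hom.hom hp.w)
  haveI : Algebra.IsPushout Γ(D.obj i₀, V₀) Γ(c.pt, V) Γ(X₀, U₀) Γ(X, U) :=
    CommRingCat.isPushout_iff_isPushout.mp hp
  haveI : Algebra.FinitePresentation Γ(D.obj i₀, V₀) Γ(X₀, U₀) :=
    HasRingHomProperty.appLE @LocallyOfFinitePresentation g₀ inferInstance ⟨V₀, hV₀⟩ ⟨U₀, hU₀⟩ e₀
  obtain ⟨C, _, _, hCfp, φC, hC⟩ := exists_stage (A₀ := Γ(D.obj i₀, V₀)) (A := Γ(c.pt, V)) (B := Γ(X, U))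
    (rs := rs) hTR
  -- lift to a stage
  let sC : Spec (CommRingCat.of C) ⟶ Spec Γ(D.obj i₀, V₀) :=
    Spec.map (CommRingCat.ofHom (algebraMap Γ(D.obj i₀, V₀) C))
  haveI : LocallyOfFinitePresentation sC :=
    (HasRingHomProperty.Spec_iff (P := @LocallyOfFinitePresentation)).2
      (RingHom.finitePresentation_algebraMap.2 hCfp)
  haveI := hV₀.isOpenImmersion_fromSpec
  haveI := hV.isOpenImmersion_fromSpec
  have sqV : IsPullback (Spec.map ((c.π.app i₀).appLE V₀ V le_rfl)) hV.fromSpec hV₀.fromSpec (c.π.app i₀) :=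
    IsOpenImmersion.isPullback _ _ _ _
      (IsAffineOpen.SpecMap_appLE_fromSpec (c.π.app i₀) hV₀ hV le_rfl).symm
      (by rw [hV₀.opensRange_fromSpec, hV.opensRange_fromSpec])
  obtain ⟨i, φ, g', hg', -⟩ := Lim.Basic.exists_bc_hom hc sqV sC (𝟙 _)
    (Spec.map (CommRingCat.ofHom φC.toRingHom : CommRingCat.of C ⟶ Γ(c.pt, V))) (by
      rw [← Spec.map_comp, Category.comp_id]
      congr 1
      ext r
      exact φC.commutes r)
  refine ⟨Over.mk φ, fun {T Y} t {p g} sqT y hy => ?_⟩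
  let Vi := D.map φ ⁻¹ᵁ V₀
  have hVi : IsAffineOpen Vi := hV₀.preimage _
  let k : Spec Γ(D.obj i, Vi) ⟶ pullback hV₀.fromSpec (D.map φ) :=
    pullback.lift (Spec.map ((D.map φ).appLE V₀ Vi le_rfl)) hVi.fromSpec
      (IsAffineOpen.SpecMap_appLE_fromSpec (D.map φ) hV₀ hVi le_rfl)
  let θ : CommRingCat.of C ⟶ Γ(D.obj i, Vi) := Spec.preimage (k ≫ g')
  have hθ₀ : CommRingCat.ofHom (algebraMap Γ(D.obj i₀, V₀) C) ≫ θ = (D.map φ).appLE V₀ Vi le_rfl := by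
    apply Spec.map_injective
    rw [Spec.map_comp, Spec.map_preimage, Category.assoc, hg', Category.comp_id, pullback.lift_fst]
  have sqi : IsPullback (pullback.fst g₀ (D.map φ)) (pullback.snd g₀ (D.map φ)) g₀ (D.map φ) :=
    IsPullback.of_hasPullback _ _
  let Ui := pullback.fst g₀ (D.map φ) ⁻¹ᵁ U₀ ⊓ pullback.snd g₀ (D.map φ) ⁻¹ᵁ Vi
  have hUi := ChartPullback.isAffineOpen_chart sqi hV₀ hU₀ e₀ hVi le_rfl
  have hpi := ChartPullback.isPushout_chart sqi hV₀ hU₀ e₀ hVi le_rfl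
  letI : Algebra Γ(D.obj i, Vi) Γ(pullback g₀ (D.map φ), Ui) :=
    ((pullback.snd g₀ (D.map φ)).appLE Vi Ui inf_le_right).hom.toAlgebra
  letI : Algebra Γ(X₀, U₀) Γ(pullback g₀ (D.map φ), Ui) :=
    ((pullback.fst g₀ (D.map φ)).appLE U₀ Ui inf_le_left).hom.toAlgebra
  letI : Algebra Γ(D.obj i₀, V₀) Γ(D.obj i, Vi) := ((D.map φ).appLE V₀ Vi le_rfl).hom.toAlgebra
  letI : Algebra Γ(D.obj i₀, V₀) Γ(pullback g₀ (D.map φ), Ui) :=
    (((pullback.snd g₀ (D.map φ)).appLE Vi Ui inf_le_right).hom.comp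
      ((D.map φ).appLE V₀ Vi le_rfl).hom).toAlgebra
  haveI : IsScalarTower Γ(D.obj i₀, V₀) Γ(D.obj i, Vi) Γ(pullback g₀ (D.map φ), Ui) :=
    .of_algebraMap_eq' rfl
  haveI : IsScalarTower Γ(D.obj i₀, V₀) Γ(X₀, U₀) Γ(pullback g₀ (D.map φ), Ui) :=
    .of_algebraMap_eq' (congrArg CommRingCat.Hom.hom hpi.w)
  haveI : Algebra.IsPushout Γ(D.obj i₀, V₀) Γ(D.obj i, Vi) Γ(X₀, U₀) Γ(pullback g₀ (D.map φ), Ui) :=
    CommRingCat.isPushout_iff_isPushout.mp hpi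
  have hTRi : TRC (pullback.snd g₀ (D.map φ)) Ui Vi inf_le_right
      (rs.map ((pullback.fst g₀ (D.map φ)).appLE U₀ Ui inf_le_left).hom) :=
    tr_of_model (P := Γ(D.obj i, Vi)) (Q := Γ(pullback g₀ (D.map φ), Ui))
      { θ.hom with commutes' := fun a => congr($hθ₀ a) } hC
  -- the test square
  let v : Y ⟶ pullback g₀ (D.map φ) :=
    pullback.lift p (g ≫ t) (by rw [Category.assoc]; exact sqT.w)
  have hvp : v ≫ pullback.fst g₀ (D.map φ) = p := pullback.lift_fst _ _ _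
  have hvg : v ≫ pullback.snd g₀ (D.map φ) = g ≫ t := pullback.lift_snd _ _ _
  have sqv : IsPullback v g (pullback.snd g₀ (D.map φ)) t :=
    IsPullback.of_right (by rw [hvp]; exact sqT) hvg sqi
  have hmem : v y ∈ Ui := by
    have hy' : pullback.fst g₀ (D.map φ) (v y) ∈ U₀ := by
      rwa [← Scheme.Hom.comp_apply, hvp]
    refine ⟨hy', ?_⟩
    show D.map φ (pullback.snd g₀ (D.map φ) (v y)) ∈ V₀
    rw [← Scheme.Hom.comp_apply, ← pullback.condition, Scheme.Hom.comp_apply]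
    exact e₀ hy'
  rw [← GS_comp v (pullback.fst g₀ (D.map φ)) p hvp rs inf_le_left y hmem hy]
  exact trp_baseChange sqv hUi hVi inf_le_right hTRi y hmem

end Groth.Agent.H69.TRLim
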